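import Mathlib
import Cfsg.Agent.Lib.Cl.FieldAut

/-!
Higman's argument in coordinates: additive operators on a finite field of characteristic two which are permuted by the
multiplications by a generator of the multiplicative group.
-/

set_option autoImplicit false
set_option linter.unusedSectionVars false
set_option linter.style.haveILetI false

namespace Cfsg.Agent.Suz2

open Polynomial

section field

variable {F : Type*} [Field F] [Fintype F] [CharP F 2]

lemma add_self_two (x : F) : x + x = 0 := CharTwo.add_self_eq_zero x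

/-- Independence of automorphisms. -/
lemma aut_indep [Fintype (F ≃+* F)] (g : (F ≃+* F) → F) (h : ∀ v : F, ∑ σ, g σ * σ v = 0) (σ : F ≃+* F) : g σ = 0 := by
  have hli := Cfsg.Agent.Lib.Cl.aut_linearIndependent (F := F)
  rw [Fintype.linearIndependent_iff] at hli
  refine hli g ?_ σ
  funext v
  simp only [Finset.sum_apply, Pi.smul_apply, smul_eq_mul, Pi.zero_apply]
  exact h v

/-- The quotients `ω / σ(ω)` are not conjugate for different `σ`. -/
lemma conj_rigid (ω : F) (hω : ∀ x : F, x ≠ 0 → ∃ t : ℕ, ω ^ t = x) (hω0 : ω ≠ 0) (σ τ ρ : F ≃+* F)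
    (h : ρ (ω / σ ω) = ω / τ ω) : σ = τ := by
  classical
  haveI : Finite (F ≃+* F) := Finite.of_injective (fun f : F ≃+* F => (f : F → F)) (fun a b h => by
    ext x
    exact congrFun h x)
  letI : Fintype (F ≃+* F) := Fintype.ofFinite _
  -- the multiplicative identity
  have hne : ∀ π : F ≃+* F, π ω ≠ 0 := fun π => by
    intro h0
    exact hω0 (π.injective (h0.trans (map_zero π).symm))
  have h1 : ρ ω * τ ω = ω * ρ (σ ω) := by
    rw [map_div₀] at h
    have h2 := hne ρ
    have h3 := hne τ
    have h4 : ρ (σ ω) ≠ 0 := fun h0 => hne σ (ρ.injective (h0.trans (map_zero ρ).symm))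
    field_simp at h
    linear_combination h
  have hI : ∀ x : F, ρ x * τ x = x * ρ (σ x) := by
    intro x
    by_cases hx : x = 0
    · rw [hx]
      simp
    obtain ⟨t, rfl⟩ := hω x hx
    simp only [map_pow]
    rw [← mul_pow, h1, mul_pow]
  have h4 : (2 : F) = 0 := CharTwo.two_eq_zero
  have hA : ∀ x : F, ρ x + τ x + x + ρ (σ x) = 0 := by
    intro x
    have h2 := hI (x + 1)
    simp only [map_add, map_one] at h2
    have h3 := hI x
    linear_combination h2 - h3 + (x + ρ (σ x)) * h4
  -- independence
  let g : (F ≃+* F) → F := fun π =>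
    (if ρ = π then 1 else 0) + (if τ = π then 1 else 0) + (if RingEquiv.refl F = π then 1 else 0) +
      (if (σ.trans ρ) = π then 1 else 0)
  have hg : ∀ π, g π = 0 := by
    apply aut_indep
    intro v
    simp only [g, add_mul, ite_mul, one_mul, zero_mul, Finset.sum_add_distrib, Finset.sum_ite_eq, Finset.mem_univ,
      if_true]
    simp only [RingEquiv.refl_apply, RingEquiv.trans_apply]
    exact hA v
  have hρ : (1 : F) + (if τ = ρ then 1 else 0) + (if RingEquiv.refl F = ρ then 1 else 0) +
      (if (σ.trans ρ) = ρ then 1 else 0) = 0 := by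
    have := hg ρ
    simp only [g] at this
    rwa [if_pos trivial] at this
  have hτ : (if ρ = τ then (1 : F) else 0) + 1 + (if RingEquiv.refl F = τ then 1 else 0) +
      (if (σ.trans ρ) = τ then 1 else 0) = 0 := by
    have := hg τ
    simp only [g] at this
    rwa [if_pos trivial] at this
  have h10 : (1 : F) ≠ 0 := one_ne_zero
  by_cases hρτ : ρ = τ
  · -- equal
    subst hρτ
    have hh : ∀ x, ρ (σ x) = x := by
      intro x
      have := hA x
      linear_combination this - (x + ρ x) * h4
    have hρ1 : ∀ x : F, ρ x = x := by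
      intro x
      have h12 := hI x
      rw [hh] at h12
      have h13 : (ρ x - x) ^ 2 = 0 := by
        linear_combination h12 + (x ^ 2 - ρ x * x) * h4
      have h14 := pow_eq_zero_iff (two_ne_zero) |>.mp h13
      exact sub_eq_zero.mp h14
    have hσ : ∀ x, σ x = x := by
      intro x
      rw [← hρ1 (σ x), hh]
    ext x
    rw [hσ, hρ1]
  · have hτρ : ¬ τ = ρ := fun h => hρτ h.symm
    rw [if_neg hτρ] at hρ
    rw [if_neg hρτ] at hτ
    by_cases hρid : RingEquiv.refl F = ρ
    · -- `ρ` is trivial
      have hσρ : σ.trans ρ = σ := by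
        ext x
        rw [RingEquiv.trans_apply, ← hρid]
        rfl
      by_cases hστ : σ.trans ρ = τ
      · rw [hσρ] at hστ
        exact hστ
      · exfalso
        have hidτ : ¬ RingEquiv.refl F = τ := fun h => hτρ (h.symm.trans hρid)
        rw [if_neg hidτ, if_neg hστ] at hτ
        apply h10
        linear_combination hτ
    · rw [if_neg hρid] at hρ
      by_cases hσρ : σ.trans ρ = ρ
      · -- `σ` is trivial
        have hσ1 : σ = RingEquiv.refl F := by
          ext x
          apply ρ.injective
          exact congrArg (fun π : F ≃+* F => π x) hσρ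
        by_cases hidτ : RingEquiv.refl F = τ
        · rw [hσ1]
          exact hidτ
        · exfalso
          have hστ : ¬ σ.trans ρ = τ := fun h => hρτ (hσρ.symm.trans h)
          rw [if_neg hidτ, if_neg hστ] at hτ
          apply h10
          linear_combination hτ
      · exfalso
        rw [if_neg hσρ] at hρ
        apply h10
        linear_combination hρ

end field

section poly

variable {F : Type*} [Field F] [Fintype F] [CharP F 2] [Algebra (ZMod 2) F]

/-- Separating polynomials. -/
lemma exists_proj [Fintype (F ≃+* F)] (ω : F) (hω : ∀ x : F, x ≠ 0 → ∃ t : ℕ, ω ^ t = x) (hω0 : ω ≠ 0) (σ : F ≃+* F) :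
    ∃ p : (ZMod 2)[X], aeval (ω / σ ω) p = 1 ∧ ∀ τ : F ≃+* F, τ ≠ σ → aeval (ω / τ ω) p = 0 := by
  classical
  haveI : Fact (Nat.Prime 2) := ⟨Nat.prime_two⟩
  set η : (F ≃+* F) → F := fun τ => ω / τ ω with hη
  have hint : ∀ x : F, IsIntegral (ZMod 2) x := fun x => Algebra.IsIntegral.isIntegral x
  have hcop : ∀ τ, τ ≠ σ → IsCoprime (minpoly (ZMod 2) (η σ)) (minpoly (ZMod 2) (η τ)) := by
    intro τ hτ
    rw [(minpoly.irreducible (hint (η σ))).coprime_iff_not_dvd]
    intro hd
    have h0 : aeval (η σ) (minpoly (ZMod 2) (η τ)) = 0 :=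
      Polynomial.aeval_eq_zero_of_dvd_aeval_eq_zero hd (minpoly.aeval _ _)
    obtain ⟨ρ, hρ⟩ := minpoly.exists_algEquiv_of_root (hint (η τ)).isAlgebraic h0
    have := conj_rigid ω hω hω0 σ τ (ρ : F ≃+* F) hρ
    exact hτ this.symm
  let Q : (ZMod 2)[X] := ∏ τ ∈ Finset.univ.erase σ, minpoly (ZMod 2) (η τ)
  have hQ : IsCoprime (minpoly (ZMod 2) (η σ)) Q := by
    apply IsCoprime.prod_right
    intro τ hτ
    exact hcop τ (Finset.ne_of_mem_erase hτ)
  obtain ⟨a, b, hab⟩ := hQ
  refine ⟨b * Q, ?_, ?_⟩
  · have h1 := congrArg (aeval (η σ)) hab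
    rw [map_add, map_mul, minpoly.aeval, mul_zero, zero_add, map_one] at h1
    exact h1
  · intro τ hτ
    have hdvd : minpoly (ZMod 2) (η τ) ∣ Q := Finset.dvd_prod_of_mem _ (Finset.mem_erase.mpr ⟨hτ, Finset.mem_univ τ⟩)
    have h1 : aeval (η τ) Q = 0 := Polynomial.aeval_eq_zero_of_dvd_aeval_eq_zero hdvd (minpoly.aeval _ _)
    rw [map_mul, h1, mul_zero]

variable {H : Type*} [AddCommGroup H] [Module (ZMod 2) H]

lemma coord_aeval (a : H →ₗ[ZMod 2] F) (T : H →ₗ[ZMod 2] H) (η : F) (hη : ∀ h, a (T h) = η * a h) (p : (ZMod 2)[X])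
    (h : H) : a (aeval T p h) = aeval η p * a h := by
  have hpow : ∀ (n : ℕ) (h : H), a ((T ^ n) h) = η ^ n * a h := by
    intro n
    induction n with
    | zero =>
      intro h
      simp
    | succ n IH =>
      intro h
      rw [pow_succ, Module.End.mul_apply, IH, hη, pow_succ, mul_assoc]
  induction p using Polynomial.induction_on' with
  | add p q hp hq =>
    simp only [map_add, LinearMap.add_apply, add_mul, hp, hq]
  | monomial n r =>
    rw [aeval_monomial, aeval_monomial, Module.End.mul_apply, Module.algebraMap_end_apply, map_smul, hpow,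
      Algebra.smul_def, mul_assoc]

end poly

end Cfsg.Agent.Suz2
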