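import Mathlib
import Cfsg.Agent.Lib.Suz2.Abs

/-!
Additive maps `f` of a finite field of characteristic two with `G (x * θ x) = f x * θ (f x)`, `G` additive, are
semilinear: `f x = c * σ x`.
-/

set_option autoImplicit false
set_option linter.unusedSectionVars false
set_option linter.style.haveILetI false

namespace Cfsg.Agent.Suz2.Rig

open Finset

variable {F : Type*} [Field F] [Fintype F] [CharP F 2]

lemma sum_symm {ι : Type*} [DecidableEq ι] (s : Finset ι) (E : ι → ι → F) (h : ∀ i j, E i j = E j i) :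
    ∑ i ∈ s, ∑ j ∈ s, E i j = ∑ i ∈ s, E i i := by
  induction s using Finset.induction_on with
  | empty => simp
  | insert a s ha ih =>
    simp only [Finset.sum_insert ha, Finset.sum_add_distrib]
    rw [ih]
    have e : ∑ i ∈ s, E i a = ∑ j ∈ s, E a j := Finset.sum_congr rfl (fun i _ => h i a)
    rw [e]
    have hh := CharTwo.add_self_eq_zero (∑ j ∈ s, E a j)
    linear_combination hh

variable [Fintype (F ≃+* F)]

theorem bi_indep (C : (F ≃+* F) → (F ≃+* F) → F)
    (h : ∀ x : F, ∑ σ, ∑ ν, C σ ν * (σ x * ν x) = 0) :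
    (∀ σ ν, C σ ν = C ν σ) ∧ ∀ σ, C σ σ = 0 := by
  classical
  have h2 : (2 : F) = 0 := CharTwo.two_eq_zero
  have hpol : ∀ x y : F, ∑ σ : F ≃+* F, (∑ ν : F ≃+* F, (C σ ν + C ν σ) * ν y) * σ x = 0 := by
    intro x y
    have h1 := h (x + y)
    have h3 := h x
    have h4 := h y
    have e : ∑ σ, ∑ ν, C σ ν * (σ (x + y) * ν (x + y)) =
        (∑ σ, ∑ ν, C σ ν * (σ x * ν x)) + (∑ σ, ∑ ν, C σ ν * (σ y * ν y)) +
          (∑ σ, ∑ ν, C σ ν * (σ x * ν y)) + ∑ σ, ∑ ν, C σ ν * (σ y * ν x) := by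
      simp only [← Finset.sum_add_distrib]
      refine Finset.sum_congr rfl fun σ _ => Finset.sum_congr rfl fun ν _ => ?_
      simp only [map_add]
      ring
    have e2 : ∑ σ : F ≃+* F, ∑ ν : F ≃+* F, C σ ν * (σ y * ν x) = ∑ σ : F ≃+* F, ∑ ν : F ≃+* F, C ν σ * (σ x * ν y) := by
      rw [Finset.sum_comm]
      refine Finset.sum_congr rfl fun σ _ => Finset.sum_congr rfl fun ν _ => ?_
      ring
    have e3 : ∑ σ : F ≃+* F, (∑ ν : F ≃+* F, (C σ ν + C ν σ) * ν y) * σ x =
        (∑ σ, ∑ ν, C σ ν * (σ x * ν y)) + ∑ σ, ∑ ν, C ν σ * (σ x * ν y) := by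
      simp only [Finset.sum_mul, ← Finset.sum_add_distrib]
      refine Finset.sum_congr rfl fun σ _ => Finset.sum_congr rfl fun ν _ => ?_
      ring
    rw [e3, ← e2]
    rw [e, h3, h4] at h1
    linear_combination h1
  have hsym : ∀ σ ν, C σ ν = C ν σ := by
    intro σ ν
    have h1 : ∀ y : F, ∑ ν' : F ≃+* F, (C σ ν' + C ν' σ) * ν' y = 0 := by
      intro y
      exact aut_indep (fun σ => ∑ ν : F ≃+* F, (C σ ν + C ν σ) * ν y) (hpol · y) σ
    have h3 := aut_indep (fun ν' => C σ ν' + C ν' σ) h1 ν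
    have : C σ ν + C ν σ = 0 := h3
    linear_combination this - (C ν σ) * h2
  refine ⟨hsym, ?_⟩
  have hdiag : ∀ x : F, ∑ σ : F ≃+* F, C σ σ * (σ x * σ x) = 0 := by
    intro x
    have h1 := h x
    rw [sum_symm (F := F) Finset.univ (fun σ ν : F ≃+* F => C σ ν * (σ x * ν x))
      (fun σ ν => by rw [hsym σ ν]; ring)] at h1
    exact h1
  have hsurj : ∀ a : F, ∃ b : F, b ^ 2 = a := by
    intro a
    have h1 : Function.Surjective (frobenius F 2) :=
      (frobeniusEquiv F 2).surjective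
    obtain ⟨b, hb⟩ := h1 a
    exact ⟨b, hb⟩
  choose D hD using hsurj
  intro σ
  have h5 : ∀ x : F, ∑ σ : F ≃+* F, D (C σ σ) * σ x = 0 := by
    intro x
    have h6 : (∑ σ : F ≃+* F, D (C σ σ) * σ x) ^ 2 = 0 := by
      rw [sum_pow_char 2 (R := F)]
      rw [← hdiag x]
      refine Finset.sum_congr rfl fun σ _ => ?_
      rw [mul_pow, hD, pow_two]
    exact pow_eq_zero_iff (two_ne_zero) |>.mp h6
  have h7 := aut_indep (fun σ => D (C σ σ)) h5 σ
  have h8 : D (C σ σ) = 0 := h7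
  rw [← hD (C σ σ), h8]
  ring

/-- The rigidity theorem. -/
theorem rigid (θ : F ≃+* F) (hcomm : ∀ (σ : F ≃+* F) (x : F), σ (θ x) = θ (σ x)) (hθ1 : ∃ x, θ x ≠ x)
    (hθ2 : (∀ x, θ (θ x) = x) ∨ ∃ x, θ (θ (θ (θ x))) ≠ x) (f G : F →+ F)
    (h : ∀ x, G (x * θ x) = f x * θ (f x)) : ∃ (c : F) (σ : F ≃+* F), ∀ x, f x = c * σ x := by
  classical
  have h2 : (2 : F) = 0 := CharTwo.two_eq_zero
  obtain ⟨co, hco⟩ := Cfsg.Agent.Lib.Cl.exists_aut_coord (F := F)
  set a : (F ≃+* F) → F := fun σ => co σ f with ha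
  set d : (F ≃+* F) → F := fun σ => co σ G with hd
  have hf : ∀ x, f x = ∑ σ, a σ * σ x := hco f
  have hG : ∀ x, G x = ∑ σ, d σ * σ x := hco G
  -- the translation
  let T : (F ≃+* F) ≃ (F ≃+* F) :=
    { toFun := fun ν => ν.trans θ
      invFun := fun ν => ν.trans θ.symm
      left_inv := fun ν => by
        ext x
        simp
      right_inv := fun ν => by
        ext x
        simp }
  have hT : ∀ ν x, (T ν) x = θ (ν x) := fun ν x => rfl
  let C : (F ≃+* F) → (F ≃+* F) → F := fun σ ν => a σ * θ (a (T.symm ν)) + if ν = T σ then d σ else 0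
  have hC : ∀ x : F, ∑ σ, ∑ ν, C σ ν * (σ x * ν x) = 0 := by
    intro x
    have e1 : ∑ σ : F ≃+* F, ∑ ν : F ≃+* F, (a σ * θ (a (T.symm ν))) * (σ x * ν x) = f x * θ (f x) := by
      rw [hf x, map_sum, Finset.sum_mul_sum]
      refine Finset.sum_congr rfl fun σ _ => ?_
      rw [← Equiv.sum_comp T]
      refine Finset.sum_congr rfl fun ν _ => ?_
      rw [Equiv.symm_apply_apply, hT, map_mul]
      ring
    have e2 : ∑ σ : F ≃+* F, ∑ ν : F ≃+* F, (if ν = T σ then d σ else 0) * (σ x * ν x) = G (x * θ x) := by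
      rw [hG]
      refine Finset.sum_congr rfl fun σ _ => ?_
      rw [Finset.sum_eq_single (T σ)]
      · rw [if_pos rfl, hT, map_mul, hcomm]
      · intro ν _ hν
        rw [if_neg hν, zero_mul]
      · intro hn
        exact absurd (Finset.mem_univ _) hn
    have e3 : ∑ σ, ∑ ν, C σ ν * (σ x * ν x) =
        (∑ σ : F ≃+* F, ∑ ν : F ≃+* F, (a σ * θ (a (T.symm ν))) * (σ x * ν x)) +
          ∑ σ : F ≃+* F, ∑ ν : F ≃+* F, (if ν = T σ then d σ else 0) * (σ x * ν x) := by
      simp only [← Finset.sum_add_distrib]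
      refine Finset.sum_congr rfl fun σ _ => Finset.sum_congr rfl fun ν _ => ?_
      simp only [C]
      ring
    rw [e3, e1, e2, h x]
    linear_combination (f x * θ (f x)) * h2
  obtain ⟨hS, hD⟩ := bi_indep C hC
  have hTne : ∀ σ : F ≃+* F, σ ≠ T σ := by
    intro σ he
    obtain ⟨x, hx⟩ := hθ1
    obtain ⟨y, rfl⟩ := σ.surjective x
    apply hx
    have := congrArg (fun e : F ≃+* F => e y) he
    simp only [hT] at this
    exact this.symm
  -- diagonal
  have hA : ∀ τ : F ≃+* F, a (T τ) = 0 ∨ a τ = 0 := by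
    intro τ
    have h3 := hD (T τ)
    simp only [C, Equiv.symm_apply_apply] at h3
    rw [if_neg (hTne (T τ)), add_zero] at h3
    rcases mul_eq_zero.mp h3 with h4 | h4
    · exact Or.inl h4
    · right
      exact (map_eq_zero θ).mp h4
  -- supports
  have hkey : ∀ σ τ : F ≃+* F, a σ ≠ 0 → a τ ≠ 0 → σ ≠ τ → σ = T (T τ) := by
    intro σ τ hσ hτ hne
    by_contra hn
    have h3 := hS σ (T τ)
    simp only [C, Equiv.symm_apply_apply] at h3
    rw [if_neg (fun e => hne (T.injective e).symm), if_neg hn, add_zero, add_zero] at h3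
    rw [(hA τ).resolve_right hτ, zero_mul] at h3
    rcases mul_eq_zero.mp h3 with h4 | h4
    · exact hσ h4
    · exact hτ ((map_eq_zero θ).mp h4)
  have hsupp : ∀ σ τ : F ≃+* F, a σ ≠ 0 → a τ ≠ 0 → σ = τ := by
    intro σ τ hσ hτ
    by_contra hne
    have e1 := hkey σ τ hσ hτ hne
    have e2 := hkey τ σ hτ hσ (Ne.symm hne)
    rcases hθ2 with hθ | ⟨x, hx⟩
    · apply hne
      rw [e1]
      ext x
      simp only [hT, hθ]
    · apply hx
      obtain ⟨y, rfl⟩ := σ.surjective x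
      have e3 : σ = T (T (T (T σ))) := by
        rw [← e2, ← e1]
      have := congrArg (fun e : F ≃+* F => e y) e3
      simp only [hT] at this
      exact this.symm
  by_cases hex : ∃ σ, a σ ≠ 0
  · obtain ⟨σ, hσ⟩ := hex
    refine ⟨a σ, σ, fun x => ?_⟩
    rw [hf, Finset.sum_eq_single σ]
    · intro ν _ hν
      by_contra hn
      have h3 : a ν ≠ 0 := fun h0 => hn (by rw [h0, zero_mul])
      exact hν (hsupp ν σ h3 hσ)
    · intro hn
      exact absurd (Finset.mem_univ _) hn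
  · push Not at hex
    refine ⟨0, RingEquiv.refl F, fun x => ?_⟩
    rw [hf, zero_mul]
    exact Finset.sum_eq_zero fun σ _ => by rw [hex σ, zero_mul]

end Cfsg.Agent.Suz2.Rig
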