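import Mathlib
import Cfsg.Agent.Lib.Suz2.Rigid
import Cfsg.Prelude.Def_Solvable
import Cfsg.Prelude.Def_Transfer

/-!
Automorphisms of a group with coordinates `(a, b)` over a finite field of characteristic two with
`x ↦ a` a surjection with kernel the centre, and `(x * x)` has second coordinate `a * θ a`.
-/

set_option autoImplicit false
set_option linter.unusedSectionVars false
set_option linter.style.haveILetI false

namespace Cfsg.Agent.Suz2.Rig

universe u v

/-- Coordinates. -/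
structure RD (S : Type u) [Group S] (F : Type v) [Field F] (θ : F ≃+* F) where
  ca : S → F
  cb : S → F
  ca_mul : ∀ x y, ca (x * y) = ca x + ca y
  ca_surj : Function.Surjective ca
  mem_center_iff : ∀ x, x ∈ Subgroup.center S ↔ ca x = 0
  cb_mul : ∀ x y, ca x = 0 → ca y = 0 → cb (x * y) = cb x + cb y
  cb_inj : ∀ x y, ca x = 0 → ca y = 0 → cb x = cb y → x = y
  cb_sq : ∀ x, cb (x * x) = ca x * θ (ca x)
  sq_surj : ∀ z, ca z = 0 → ∃ x, z = x * x
  θ_comm : ∀ (σ : F ≃+* F) (x : F), σ (θ x) = θ (σ x)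
  θ_ne : ∃ x, θ x ≠ x
  θ_cond : (∀ x, θ (θ x) = x) ∨ ∃ x, θ (θ (θ (θ x))) ≠ x

/-- The centre as a commutative group. -/
@[reducible] def cgrp (S : Type u) [Group S] : CommGroup (Subgroup.center S) :=
  { (inferInstance : Group (Subgroup.center S)) with
    mul_comm := fun a b => Subtype.ext (Subgroup.mem_center_iff.mp a.2 b.1).symm }

attribute [local instance] cgrp

variable {F : Type v} [Field F] [Fintype F] [CharP F 2]

lemma ext_add {A : Type*} [AddCommGroup A] (h2 : ∀ a : A, a + a = 0) (i h : A →+ F)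
    (hi : Function.Injective i) : ∃ G : F →+ F, ∀ a, G (i a) = h a := by
  classical
  letI : Module (ZMod 2) A := AddCommGroup.zmodModule (n := 2) (by
    intro x
    rw [two_smul]
    exact h2 x)
  letI := ZMod.algebra F 2
  let i' : A →ₗ[ZMod 2] F := AddMonoidHom.toZModLinearMap 2 i
  let h' : A →ₗ[ZMod 2] F := AddMonoidHom.toZModLinearMap 2 h
  obtain ⟨r, hr⟩ := i'.exists_leftInverse_of_injective (LinearMap.ker_eq_bot.mpr hi)
  refine ⟨(h'.comp r).toAddMonoidHom, fun a => ?_⟩
  have h1 : r (i' a) = a := LinearMap.congr_fun hr a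
  show h' (r (i a)) = h a
  have h3 : i' a = i a := rfl
  rw [← h3, h1]
  rfl

lemma pow_two_pow_inj {v : F} {k : ℕ} (h : v ^ (2 ^ k) = 1) : v = 1 := by
  have h1 : (v + 1) ^ (2 ^ k) = v ^ (2 ^ k) + 1 ^ (2 ^ k) := add_pow_char_pow v 1 2 k
  rw [h, one_pow, CharTwo.add_self_eq_zero] at h1
  have h3 := pow_eq_zero_iff (n := 2 ^ k) (by positivity) |>.mp h1
  have h4 : (2 : F) = 0 := CharTwo.two_eq_zero
  linear_combination h3 - h4

namespace RD

variable {S : Type u} [Group S] {θ : F ≃+* F} (D : RD S F θ)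

include D

omit [Fintype F] [CharP F 2] in
lemma ca_one : D.ca 1 = 0 := by
  have h := D.ca_mul 1 1
  rw [mul_one] at h
  linear_combination -h

omit [Fintype F] in
lemma ca_inv (x : S) : D.ca x⁻¹ = D.ca x := by
  have h := D.ca_mul x⁻¹ x
  rw [inv_mul_cancel, D.ca_one] at h
  have h2 : (2 : F) = 0 := CharTwo.two_eq_zero
  linear_combination -h - D.ca x * h2

omit [Fintype F] in
lemma ca_sq (x : S) : D.ca (x * x) = 0 := by
  rw [D.ca_mul]
  exact CharTwo.add_self_eq_zero _

omit [Fintype F] [CharP F 2] in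
lemma cb_one : D.cb 1 = 0 := by
  have h := D.cb_mul 1 1 D.ca_one D.ca_one
  rw [mul_one] at h
  linear_combination -h

omit [Fintype F] [CharP F 2] in
lemma sq_z {z : S} (hz : D.ca z = 0) : z * z = 1 := by
  have h1 : D.ca (z * z) = 0 := by rw [D.ca_mul, hz, add_zero]
  apply D.cb_inj _ _ h1 D.ca_one
  rw [D.cb_sq, hz, zero_mul, D.cb_one]

omit [Fintype F] [CharP F 2] in
lemma comm_z {z : S} (hz : D.ca z = 0) (y : S) : z * y = y * z :=
  (Subgroup.mem_center_iff.mp ((D.mem_center_iff z).mpr hz) y).symm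

omit [Fintype F] [CharP F 2] in
lemma map_z (φ : MulAut S) {z : S} (hz : D.ca z = 0) : D.ca (φ z) = 0 := by
  rw [← D.mem_center_iff, Subgroup.mem_center_iff]
  intro g
  obtain ⟨y, rfl⟩ := φ.surjective g
  rw [← map_mul, ← map_mul, D.comm_z hz y]

omit [Fintype F] in
lemma ca_eq {x y : S} (h : D.ca x = D.ca y) : D.ca (x⁻¹ * y) = 0 := by
  rw [D.ca_mul, D.ca_inv, h]
  exact CharTwo.add_self_eq_zero _

omit [Fintype F] in
lemma ca_congr (φ : MulAut S) {x y : S} (h : D.ca x = D.ca y) : D.ca (φ x) = D.ca (φ y) := by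
  have h1 := D.map_z φ (D.ca_eq h)
  rw [map_mul, map_inv, D.ca_mul, D.ca_inv] at h1
  have h2 : (2 : F) = 0 := CharTwo.two_eq_zero
  linear_combination h1 - D.ca (φ y) * h2

/-- The map induced on the field. -/
noncomputable def ff (φ : MulAut S) : F →+ F :=
  AddMonoidHom.mk' (fun a => D.ca (φ (Function.surjInv D.ca_surj a))) (by
    intro a b
    rw [← D.ca_mul, ← map_mul]
    apply D.ca_congr
    rw [D.ca_mul, Function.surjInv_eq D.ca_surj, Function.surjInv_eq D.ca_surj, Function.surjInv_eq D.ca_surj])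

omit [Fintype F] in
lemma ff_ca (φ : MulAut S) (x : S) : D.ff φ (D.ca x) = D.ca (φ x) := by
  apply D.ca_congr
  exact Function.surjInv_eq D.ca_surj _

omit [Fintype F] in
lemma ff_mul (φ ψ : MulAut S) (a : F) : D.ff (φ * ψ) a = D.ff φ (D.ff ψ a) := by
  obtain ⟨x, rfl⟩ := D.ca_surj a
  rw [D.ff_ca, D.ff_ca, D.ff_ca]
  rfl

omit [Fintype F] in
lemma ff_one (a : F) : D.ff 1 a = a := by
  obtain ⟨x, rfl⟩ := D.ca_surj a
  rw [D.ff_ca]
  rfl

/-- The permutation of the field. -/
noncomputable def Phi : MulAut S →* Equiv.Perm F where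
  toFun φ :=
    { toFun := D.ff φ
      invFun := D.ff φ⁻¹
      left_inv := fun a => by
        rw [← D.ff_mul, inv_mul_cancel, D.ff_one]
      right_inv := fun a => by
        rw [← D.ff_mul, mul_inv_cancel, D.ff_one] }
  map_one' := by
    ext a
    exact D.ff_one a
  map_mul' φ ψ := by
    ext a
    exact D.ff_mul φ ψ a

omit [Fintype F] in
lemma Phi_apply (φ : MulAut S) (a : F) : D.Phi φ a = D.ff φ a := rfl

omit [Fintype F] in
lemma Phi_ca (φ : MulAut S) (x : S) : D.Phi φ (D.ca x) = D.ca (φ x) := D.ff_ca φ x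

omit [Fintype F] in
lemma mem_ker_iff (φ : MulAut S) : φ ∈ D.Phi.ker ↔ ∀ x, D.ca (φ x) = D.ca x := by
  rw [MonoidHom.mem_ker]
  constructor
  · intro h x
    rw [← D.Phi_ca, h]
    rfl
  · intro h
    ext a
    obtain ⟨x, rfl⟩ := D.ca_surj a
    rw [D.Phi_ca, h]
    rfl

/-- The semilinear form of the induced map. -/
theorem coord (φ : MulAut S) : ∃ (c : F) (σ : F ≃+* F), c ≠ 0 ∧ ∀ a, D.Phi φ a = c * σ a := by
  classical
  haveI : Finite (F ≃+* F) := Finite.of_injective (fun f : F ≃+* F => (f : F → F)) (fun a b h => by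
    ext x
    exact congrFun h x)
  letI : Fintype (F ≃+* F) := Fintype.ofFinite _
  let i : Additive (Subgroup.center S) →+ F := AddMonoidHom.mk' (fun z => D.cb (Additive.toMul z).1) (by
    intro a b
    exact D.cb_mul _ _ ((D.mem_center_iff _).mp (Additive.toMul a).2) ((D.mem_center_iff _).mp (Additive.toMul b).2))
  let h : Additive (Subgroup.center S) →+ F := AddMonoidHom.mk' (fun z => D.cb (φ (Additive.toMul z).1)) (by
    intro a b
    show D.cb (φ ((Additive.toMul a).1 * (Additive.toMul b).1)) = _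
    rw [map_mul]
    exact D.cb_mul _ _ (D.map_z φ ((D.mem_center_iff _).mp (Additive.toMul a).2))
      (D.map_z φ ((D.mem_center_iff _).mp (Additive.toMul b).2)))
  have hi : Function.Injective i := by
    intro a b hab
    apply Additive.toMul.injective
    apply Subtype.ext
    exact D.cb_inj _ _ ((D.mem_center_iff _).mp (Additive.toMul a).2) ((D.mem_center_iff _).mp (Additive.toMul b).2) hab
  have h2 : ∀ a : Additive (Subgroup.center S), a + a = 0 := by
    intro a
    apply Additive.toMul.injective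
    apply Subtype.ext
    exact D.sq_z ((D.mem_center_iff _).mp (Additive.toMul a).2)
  obtain ⟨G, hG⟩ := ext_add h2 i h hi
  have hkey : ∀ a, G (a * θ a) = D.ff φ a * θ (D.ff φ a) := by
    intro a
    obtain ⟨x, rfl⟩ := D.ca_surj a
    have hm : x * x ∈ Subgroup.center S := (D.mem_center_iff _).mpr (D.ca_sq x)
    have h3 := hG (Additive.ofMul ⟨x * x, hm⟩)
    have h4 : i (Additive.ofMul ⟨x * x, hm⟩) = D.ca x * θ (D.ca x) := D.cb_sq x
    have h5 : h (Additive.ofMul ⟨x * x, hm⟩) = D.cb (φ (x * x)) := rfl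
    rw [h4, h5, map_mul φ x x, D.cb_sq] at h3
    rw [h3, D.ff_ca]
  obtain ⟨c, σ, hf⟩ := rigid θ D.θ_comm D.θ_ne D.θ_cond (D.ff φ) G hkey
  refine ⟨c, σ, ?_, hf⟩
  rintro rfl
  obtain ⟨x, hx⟩ := D.ca_surj 1
  have h3 := hf (D.ca (φ⁻¹ x))
  rw [D.ff_ca] at h3
  have e : φ (φ⁻¹ x) = x := MulAut.apply_inv_self _ _ _
  rw [e, hx, zero_mul] at h3
  exact one_ne_zero h3

omit [Fintype F] [CharP F 2] in
/-- The automorphism fixes the squares up to a scalar. -/
lemma cb_map_of_coord (φ : MulAut S) {c : F} {σ : F ≃+* F} (hφ : ∀ x, D.ca (φ x) = c * σ (D.ca x)) {z : S}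
    (hz : D.ca z = 0) : D.cb (φ z) = c * θ c * σ (D.cb z) := by
  obtain ⟨x, rfl⟩ := D.sq_surj z hz
  rw [map_mul, D.cb_sq, D.cb_sq, hφ, map_mul, map_mul, D.θ_comm]
  ring

/-! ### The kernel -/

/-- Automorphisms in the kernel fix the centre. -/
lemma ker_fix {φ : MulAut S} (hφ : ∀ x, D.ca (φ x) = D.ca x) {z : S} (hz : D.ca z = 0) : φ z = z := by
  obtain ⟨w, rfl⟩ := D.sq_surj z hz
  have h1 : D.ca (w⁻¹ * φ w) = 0 := D.ca_eq (hφ w).symm
  have e : φ w = w * (w⁻¹ * φ w) := by group
  generalize w⁻¹ * φ w = u at *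
  rw [map_mul, e]
  calc w * u * (w * u) = w * (u * w) * u := by group
    _ = w * (w * u) * u := by rw [D.comm_z h1 w]
    _ = w * w * (u * u) := by group
    _ = w * w := by rw [D.sq_z h1, mul_one]

/-- The central automorphism attached to a homomorphism. -/
def zz (l : F →+ Additive (Subgroup.center S)) (a : F) : S := (Additive.toMul (l a)).1

omit [Fintype F] [CharP F 2] in
lemma zz_ca (l : F →+ Additive (Subgroup.center S)) (a : F) : D.ca (zz l a) = 0 :=
  (D.mem_center_iff _).mp (Additive.toMul (l a)).2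

omit [Fintype F] [CharP F 2] in
omit D in
lemma zz_add (l : F →+ Additive (Subgroup.center S)) (a b : F) : zz l (a + b) = zz l a * zz l b := by
  unfold zz
  rw [map_add]
  rfl

/-- The central automorphism attached to a homomorphism. -/
def central (l : F →+ Additive (Subgroup.center S)) : MulAut S where
  toFun x := x * zz l (D.ca x)
  invFun x := x * zz l (D.ca x)
  left_inv x := by
    show x * zz l (D.ca x) * zz l (D.ca (x * zz l (D.ca x))) = x
    rw [D.ca_mul, D.zz_ca, add_zero, mul_assoc, D.sq_z (D.zz_ca l _), mul_one]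
  right_inv x := by
    show x * zz l (D.ca x) * zz l (D.ca (x * zz l (D.ca x))) = x
    rw [D.ca_mul, D.zz_ca, add_zero, mul_assoc, D.sq_z (D.zz_ca l _), mul_one]
  map_mul' x y := by
    show x * y * zz l (D.ca (x * y)) = x * zz l (D.ca x) * (y * zz l (D.ca y))
    rw [D.ca_mul, zz_add]
    have := D.comm_z (D.zz_ca l (D.ca x)) y
    calc x * y * (zz l (D.ca x) * zz l (D.ca y)) = x * (y * zz l (D.ca x)) * zz l (D.ca y) := by group
      _ = x * (zz l (D.ca x) * y) * zz l (D.ca y) := by rw [this]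
      _ = _ := by group

omit [Fintype F] [CharP F 2] in
lemma central_apply (l : F →+ Additive (Subgroup.center S)) (x : S) : D.central l x = x * zz l (D.ca x) := rfl

lemma central_mem (l : F →+ Additive (Subgroup.center S)) : D.central l ∈ D.Phi.ker := by
  rw [mem_ker_iff]
  intro x
  rw [D.central_apply, D.ca_mul, D.zz_ca, add_zero]

/-- The kernel is the set of central automorphisms. -/
lemma central_bij : Function.Bijective
    (fun l : F →+ Additive (Subgroup.center S) => (⟨D.central l, D.central_mem l⟩ : D.Phi.ker)) := by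
  constructor
  · intro l m h
    ext a
    obtain ⟨x, rfl⟩ := D.ca_surj a
    have h1 : D.central l x = D.central m x := by
      have := congrArg Subtype.val h
      exact DFunLike.congr_fun this x
    rw [D.central_apply, D.central_apply] at h1
    exact mul_left_cancel h1
  · rintro ⟨φ, hφ⟩
    have hφ' := (D.mem_ker_iff φ).mp hφ
    let del : S → S := fun x => x⁻¹ * φ x
    have hdel0 : ∀ x, D.ca (del x) = 0 := fun x => D.ca_eq (hφ' x).symm
    have hdel_eq : ∀ x y, D.ca x = D.ca y → del x = del y := by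
      intro x y hxy
      have ht := D.ca_eq hxy
      have hfix := D.ker_fix hφ' ht
      have e : y = x * (x⁻¹ * y) := by group
      generalize x⁻¹ * y = t at *
      subst e
      show x⁻¹ * φ x = (x * t)⁻¹ * φ (x * t)
      rw [map_mul, hfix]
      calc x⁻¹ * φ x = t⁻¹ * (x⁻¹ * φ x) * t := by
            have h5 := D.comm_z (hdel0 x) t
            have : del x = x⁻¹ * φ x := rfl
            rw [← this, mul_assoc, h5]
            group
        _ = _ := by group
    have hdel_mul : ∀ x y, del (x * y) = del x * del y := by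
      intro x y
      show (x * y)⁻¹ * φ (x * y) = del x * (y⁻¹ * φ y)
      rw [map_mul]
      have h5 := D.comm_z (hdel0 x) y⁻¹
      calc (x * y)⁻¹ * (φ x * φ y) = y⁻¹ * del x * φ y := by
            show _ = y⁻¹ * (x⁻¹ * φ x) * φ y
            group
        _ = del x * y⁻¹ * φ y := by rw [h5]
        _ = _ := by group
    let l : F →+ Additive (Subgroup.center S) := AddMonoidHom.mk'
      (fun a => Additive.ofMul ⟨del (Function.surjInv D.ca_surj a), (D.mem_center_iff _).mpr (hdel0 _)⟩) (by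
        intro a b
        apply Additive.toMul.injective
        apply Subtype.ext
        show del (Function.surjInv D.ca_surj (a + b)) =
          del (Function.surjInv D.ca_surj a) * del (Function.surjInv D.ca_surj b)
        rw [← hdel_mul]
        apply hdel_eq
        rw [D.ca_mul, Function.surjInv_eq D.ca_surj, Function.surjInv_eq D.ca_surj, Function.surjInv_eq D.ca_surj])
    refine ⟨l, Subtype.ext ?_⟩
    ext x
    show x * del (Function.surjInv D.ca_surj (D.ca x)) = φ x
    rw [hdel_eq _ x (Function.surjInv_eq D.ca_surj _)]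
    show x * (x⁻¹ * φ x) = φ x
    group

/-- Squares in the kernel are trivial. -/
lemma ker_sq {φ : MulAut S} (hφ : φ ∈ D.Phi.ker) : φ ^ 2 = 1 := by
  have hφ' := (D.mem_ker_iff φ).mp hφ
  ext x
  have h1 := D.ca_eq (hφ' x).symm
  have hfix := D.ker_fix hφ' h1
  show φ (φ x) = x
  have e : φ x = x * (x⁻¹ * φ x) := by group
  generalize x⁻¹ * φ x = u at *
  rw [e, map_mul, e, hfix, mul_assoc, D.sq_z h1, mul_one]

/-- The kernel is commutative. -/
lemma ker_comm {φ ψ : MulAut S} (hφ : φ ∈ D.Phi.ker) (hψ : ψ ∈ D.Phi.ker) : φ * ψ = ψ * φ := by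
  have hφ' := (D.mem_ker_iff φ).mp hφ
  have hψ' := (D.mem_ker_iff ψ).mp hψ
  ext x
  show φ (ψ x) = ψ (φ x)
  have h1 := D.ca_eq (hφ' x).symm
  have h2 := D.ca_eq (hψ' x).symm
  have hfix1 := D.ker_fix hφ' h2
  have hfix2 := D.ker_fix hψ' h1
  have e1 : φ x = x * (x⁻¹ * φ x) := by group
  have e2 : ψ x = x * (x⁻¹ * ψ x) := by group
  generalize x⁻¹ * φ x = u at *
  generalize x⁻¹ * ψ x = v at *
  rw [e2, map_mul, e1, hfix1, map_mul, e2, hfix2, mul_assoc, mul_assoc, D.comm_z h1 v]

/-- Orders. -/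
lemma card_hom (d : ℕ) (hd : Fintype.card F = 2 ^ d) [Finite (Subgroup.center S)] :
    Nat.card (F →+ Additive (Subgroup.center S)) = (Nat.card (Subgroup.center S)) ^ d := by
  classical
  letI : Module (ZMod 2) (Additive (Subgroup.center S)) := AddCommGroup.zmodModule (n := 2) (by
    intro x
    rw [two_smul]
    apply Additive.toMul.injective
    apply Subtype.ext
    exact D.sq_z ((D.mem_center_iff _).mp (Additive.toMul x).2))
  letI := ZMod.algebra F 2
  haveI : Fact (Nat.Prime 2) := ⟨Nat.prime_two⟩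
  haveI : Module.Finite (ZMod 2) F := Module.Finite.of_finite
  have hf : Module.finrank (ZMod 2) F = d := by
    have h1 := Module.card_eq_pow_finrank (K := ZMod 2) (V := F)
    rw [hd, ZMod.card] at h1
    exact (Nat.pow_right_injective (le_refl 2) h1).symm
  let b := Module.finBasisOfFinrankEq (ZMod 2) F hf
  have e1 : (F →+ Additive (Subgroup.center S)) ≃ (F →ₗ[ZMod 2] Additive (Subgroup.center S)) :=
    { toFun := fun l => AddMonoidHom.toZModLinearMap 2 l
      invFun := fun l => l.toAddMonoidHom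
      left_inv := fun l => by
        ext a
        rfl
      right_inv := fun l => by
        ext a
        rfl }
  rw [Nat.card_congr e1, Nat.card_congr (b.constr (ZMod 2) (M' := Additive (Subgroup.center S))).symm.toEquiv]
  rw [Nat.card_fun, Nat.card_fin]
  rfl

omit D in
/-- Powers of scalars. -/
lemma perm_pow_scalar {p : Equiv.Perm F} {v : F} (h : ∀ a, p a = v * a) (n : ℕ) (a : F) : (p ^ n) a = v ^ n * a := by
  induction n generalizing a with
  | zero => simp
  | succ n ih =>
    rw [pow_succ, Equiv.Perm.mul_apply, ih, h, pow_succ]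
    ring

/-- A normal `2`-subgroup lies in the kernel, if all semilinear maps lift. -/
lemma normal_two_le (hl : ∀ (c : F) (σ : F ≃+* F), c ≠ 0 → ∃ φ : MulAut S, ∀ a, D.Phi φ a = c * σ a)
    (N : Subgroup (MulAut S)) (hN : N.Normal) (hp : IsPGroup 2 N) : N ≤ D.Phi.ker := by
  intro φ hφ
  obtain ⟨c, σ, hc, hf⟩ := D.coord φ
  have hpow : ∀ χ ∈ N, ∀ v : F, (∀ a, D.Phi χ a = v * a) → v = 1 := by
    intro χ hχ v hv
    obtain ⟨k, hk⟩ := hp ⟨χ, hχ⟩
    have h1 : χ ^ (2 ^ k) = 1 := congrArg Subtype.val hk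
    have h3 := perm_pow_scalar hv (2 ^ k) 1
    rw [← map_pow, h1, map_one D.Phi, Equiv.Perm.one_apply, mul_one] at h3
    exact pow_two_pow_inj h3.symm
  have hσ : ∀ u : F, σ u = u := by
    intro u
    by_cases hu : u = 0
    · rw [hu, map_zero]
    obtain ⟨ψ, hψ⟩ := hl u (RingEquiv.refl F) hu
    have hψ' : ∀ a, D.Phi ψ a = u * a := hψ
    have hχ : φ * (ψ * φ⁻¹ * ψ⁻¹) ∈ N := N.mul_mem hφ (hN.conj_mem _ (N.inv_mem hφ) ψ)
    have h1 := hpow _ hχ (σ u * u⁻¹) (by
      intro a
      rw [map_mul, map_mul, map_mul, map_inv, map_inv]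
      show D.Phi φ (D.Phi ψ ((D.Phi φ)⁻¹ ((D.Phi ψ)⁻¹ a))) = _
      obtain ⟨b, hb⟩ := (D.Phi φ).surjective ((D.Phi ψ)⁻¹ a)
      have e1 : (D.Phi φ)⁻¹ ((D.Phi ψ)⁻¹ a) = b := by
        rw [← hb]
        exact (D.Phi φ).symm_apply_apply b
      have e2 : a = u * (c * σ b) := by
        rw [← hf, hb, ← hψ']
        exact ((D.Phi ψ).apply_symm_apply a).symm
      rw [e1, hψ', hf, map_mul, e2]
      field_simp)
    have h3 : σ u * u⁻¹ * u = u := by rw [h1, one_mul]
    rw [mul_assoc, inv_mul_cancel₀ hu, mul_one] at h3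
    exact h3
  have hc1 : c = 1 := hpow φ hφ c (fun a => by rw [hf, hσ])
  rw [MonoidHom.mem_ker]
  ext a
  rw [hf, hσ, hc1, one_mul]
  rfl

/-- The `2`-core of the automorphism group. -/
lemma pCore_eq_ker (hl : ∀ (c : F) (σ : F ≃+* F), c ≠ 0 → ∃ φ : MulAut S, ∀ a, D.Phi φ a = c * σ a) :
    Cfsg.pCore 2 (MulAut S) = D.Phi.ker := by
  apply le_antisymm
  · apply sSup_le
    rintro N ⟨hN, hp⟩
    exact D.normal_two_le hl N hN hp
  · apply le_sSup
    refine ⟨MonoidHom.normal_ker _, ?_⟩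
    intro φ
    refine ⟨1, ?_⟩
    apply Subtype.ext
    exact D.ker_sq φ.2

/-- The range of the permutation representation. -/
lemma card_range (hl : ∀ (c : F) (σ : F ≃+* F), c ≠ 0 → ∃ φ : MulAut S, ∀ a, D.Phi φ a = c * σ a) :
    Nat.card D.Phi.range = (Fintype.card F - 1) * Nat.card (F ≃+* F) := by
  classical
  have h0 : ∀ p : Fˣ × (F ≃+* F), ∃ φ : MulAut S, ∀ a, D.Phi φ a = (p.1 : F) * p.2 a :=
    fun p => hl p.1 p.2 p.1.ne_zero
  choose g hg using h0
  let e : Fˣ × (F ≃+* F) → D.Phi.range := fun p => ⟨D.Phi (g p), ⟨_, rfl⟩⟩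
  have he : Function.Bijective e := by
    constructor
    · rintro ⟨u, σ⟩ ⟨v, τ⟩ h
      have h1 : ∀ a, (u : F) * σ a = v * τ a := by
        intro a
        have h3 := DFunLike.congr_fun (congrArg Subtype.val h) a
        have h4 : D.Phi (g (u, σ)) a = D.Phi (g (v, τ)) a := h3
        rw [hg, hg] at h4
        exact h4
      have h3 : (u : F) = v := by
        have := h1 1
        rwa [map_one, map_one, mul_one, mul_one] at this
      have h4 : u = v := Units.ext h3
      subst h4
      have h5 : σ = τ := by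
        ext a
        exact mul_left_cancel₀ u.ne_zero (h1 a)
      rw [h5]
    · rintro ⟨_, φ, rfl⟩
      obtain ⟨c, σ, hc, hf⟩ := D.coord φ
      refine ⟨(Units.mk0 c hc, σ), Subtype.ext ?_⟩
      ext a
      show D.Phi (g _) a = _
      rw [hg, hf]
      rfl
  rw [← Nat.card_congr (Equiv.ofBijective e he), Nat.card_prod]
  congr 1
  rw [Nat.card_eq_fintype_card, Fintype.card_units]

/-- The main structure theorem. -/
theorem main [Finite S] (hl : ∀ (c : F) (σ : F ≃+* F), c ≠ 0 → ∃ φ : MulAut S, ∀ a, D.Phi φ a = c * σ a)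
    (d : ℕ) (hd : Fintype.card F = 2 ^ d) :
    Cfsg.IsElementaryAbelian 2 (Cfsg.pCore 2 (MulAut S)) ∧
      Nat.card (Cfsg.pCore 2 (MulAut S)) = (Nat.card (Subgroup.center S)) ^ d ∧
      Nat.card (MulAut S) = (Nat.card (Subgroup.center S)) ^ d * ((Fintype.card F - 1) * Nat.card (F ≃+* F)) := by
  classical
  rw [D.pCore_eq_ker hl]
  have hcK : Nat.card D.Phi.ker = (Nat.card (Subgroup.center S)) ^ d := by
    rw [← D.card_hom d hd]
    exact (Nat.card_congr (Equiv.ofBijective _ D.central_bij)).symm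
  refine ⟨⟨⟨⟨fun a b => Subtype.ext (D.ker_comm a.2 b.2)⟩⟩, fun a ha => D.ker_sq ha⟩, hcK, ?_⟩
  have h1 := Subgroup.card_mul_index D.Phi.ker
  rw [Subgroup.index_ker, D.card_range hl, hcK] at h1
  exact h1.symm

/-- An automorphism with trivial square mod inner ones fixes the centre. -/
theorem fix_center_of_sq (hθ : ∀ x, θ (θ x) = x) (hτ : ∀ τ : F ≃+* F, (∀ x, τ (τ x) = x) → τ = RingEquiv.refl F ∨ τ = θ)
    (φ : MulAut S) (hφ : D.Phi φ * D.Phi φ = 1) {z : S} (hz : D.ca z = 0) : φ z = z := by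
  obtain ⟨c, σ, hc, hf⟩ := D.coord φ
  have h1 : ∀ a, c * σ (c * σ a) = a := by
    intro a
    have h3 := DFunLike.congr_fun hφ a
    rw [Equiv.Perm.mul_apply, hf, hf] at h3
    exact h3
  have h3 : c * σ c = 1 := by
    have := h1 1
    simpa using this
  have h4 : ∀ a, σ (σ a) = a := by
    intro a
    have h5 := h1 a
    rw [map_mul, ← mul_assoc, h3, one_mul] at h5
    exact h5
  have hφ' : ∀ x, D.ca (φ x) = c * σ (D.ca x) := fun x => by rw [← D.Phi_ca, hf]
  have hz' := D.cb_map_of_coord φ hφ' hz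
  apply D.cb_inj _ _ (D.map_z φ hz) hz
  rw [hz']
  rcases hτ σ h4 with rfl | rfl
  · have h5 : c * c = 1 := h3
    have h6 : (c + 1) ^ 2 = 0 := by
      have h2 : (2 : F) = 0 := CharTwo.two_eq_zero
      linear_combination h5 + (c + 1) * h2
    have h7 : c + 1 = 0 := pow_eq_zero_iff (two_ne_zero) |>.mp h6
    have h8 : c = 1 := by
      have h2 : (2 : F) = 0 := CharTwo.two_eq_zero
      linear_combination h7 - h2
    rw [h8]
    simp
  · rw [h3, one_mul]
    obtain ⟨x, rfl⟩ := D.sq_surj z hz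
    rw [D.cb_sq, map_mul, hθ]
    ring

/-- No dihedral group of order six acts nontrivially. -/
theorem rho_trivial (hσ3 : ∀ σ : F ≃+* F, (∀ a, σ (σ (σ a)) = a) → σ = RingEquiv.refl F)
    (hτ : ∀ τ : F ≃+* F, (∀ a, τ (τ a) = a) → ∀ c : F, c ^ 3 = 1 → τ c = c) (ρ w : MulAut S) (h3 : ρ ^ 3 = 1)
    (h2w : w ^ 2 = 1) (hrel : ρ * w * ρ = w) : ρ = 1 := by
  obtain ⟨c, σ, hc, hf⟩ := D.coord ρ
  obtain ⟨e, τ, he, hg⟩ := D.coord w
  have hρ3 : ∀ a, D.Phi ρ (D.Phi ρ (D.Phi ρ a)) = a := by
    intro a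
    have h4 : D.Phi (ρ * ρ * ρ) a = a := by
      have e1 : ρ * ρ * ρ = ρ ^ 3 := by rw [pow_succ, pow_two]
      rw [e1, h3, map_one D.Phi]
      rfl
    rw [map_mul, map_mul] at h4
    exact h4
  have h5 : ∀ a, c * σ c * σ (σ c) * σ (σ (σ a)) = a := by
    intro a
    have h4 := hρ3 a
    simp only [hf, map_mul] at h4
    linear_combination h4
  have h6 : c * σ c * σ (σ c) = 1 := by
    have := h5 1
    simpa using this
  have hσ : σ = RingEquiv.refl F := by
    apply hσ3
    intro a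
    have := h5 a
    rwa [h6, one_mul] at this
  subst hσ
  have hc3 : c ^ 3 = 1 := by
    have h7 : c * c * c = 1 := h6
    linear_combination h7
  have hw2 : ∀ a, e * τ e * τ (τ a) = a := by
    intro a
    have h4 : D.Phi (w * w) a = a := by
      have e1 : w * w = w ^ 2 := (pow_two w).symm
      rw [e1, h2w, map_one D.Phi]
      rfl
    rw [map_mul] at h4
    have h7 : D.Phi w (D.Phi w a) = a := h4
    simp only [hg, map_mul] at h7
    linear_combination h7
  have hτ2 : ∀ a, τ (τ a) = a := by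
    intro a
    have h7 := hw2 1
    have h8 := hw2 a
    simp only [map_one, mul_one] at h7
    rwa [h7, one_mul] at h8
  have hfix := hτ τ hτ2 c hc3
  have hr : c * e * τ c = e := by
    have h4 : D.Phi (ρ * w * ρ) 1 = D.Phi w 1 := by rw [hrel]
    rw [map_mul, map_mul] at h4
    have h7 : D.Phi ρ (D.Phi w (D.Phi ρ 1)) = D.Phi w 1 := h4
    simp only [hf, hg, map_mul, map_one, mul_one, RingEquiv.refl_apply] at h7
    linear_combination h7
  have hc2 : c * c = 1 := by
    rw [hfix] at hr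
    apply mul_left_cancel₀ he
    linear_combination hr
  have hc1 : c = 1 := by
    have h7 : c ^ 3 = c * (c * c) := by ring
    rw [h7, hc2, mul_one] at hc3
    exact hc3
  have hk : ρ ∈ D.Phi.ker := by
    rw [MonoidHom.mem_ker]
    ext a
    rw [hf, hc1, one_mul]
    rfl
  have h8 := D.ker_sq hk
  have e1 : ρ = ρ ^ 3 * (ρ ^ 2)⁻¹ := by group
  rw [e1, h3, h8]
  simp

end RD

/-- Transport of coordinates along an isomorphism. -/
def RD.transport {S U : Type*} [Group S] [Group U] {θ : F ≃+* F} (e : S ≃* U) (D : RD U F θ) : RD S F θ where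
  ca x := D.ca (e x)
  cb x := D.cb (e x)
  ca_mul x y := by rw [map_mul, D.ca_mul]
  ca_surj a := by
    obtain ⟨x, hx⟩ := D.ca_surj a
    exact ⟨e.symm x, by simp [hx]⟩
  mem_center_iff x := by
    rw [← D.mem_center_iff, Subgroup.mem_center_iff, Subgroup.mem_center_iff]
    constructor
    · intro h g
      obtain ⟨y, rfl⟩ := e.surjective g
      rw [← map_mul, ← map_mul, h]
    · intro h g
      apply e.injective
      rw [map_mul, map_mul, h]
  cb_mul x y hx hy := by
    rw [map_mul]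
    exact D.cb_mul _ _ hx hy
  cb_inj x y hx hy h := e.injective (D.cb_inj _ _ hx hy h)
  cb_sq x := by
    rw [map_mul]
    exact D.cb_sq _
  sq_surj z hz := by
    obtain ⟨x, hx⟩ := D.sq_surj (e z) hz
    refine ⟨e.symm x, e.injective ?_⟩
    rw [hx, map_mul, e.apply_symm_apply]
  θ_comm := D.θ_comm
  θ_ne := D.θ_ne
  θ_cond := D.θ_cond

lemma RD.transport_ca {S U : Type*} [Group S] [Group U] {θ : F ≃+* F} (e : S ≃* U) (D : RD U F θ) (x : S) :
    (D.transport e).ca x = D.ca (e x) := rfl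

lemma RD.transport_lift {S U : Type*} [Group S] [Group U] {θ : F ≃+* F} (e : S ≃* U) (D : RD U F θ)
    (hl : ∀ (c : F) (σ : F ≃+* F), c ≠ 0 → ∃ φ : MulAut U, ∀ x, D.ca (φ x) = c * σ (D.ca x)) :
    ∀ (c : F) (σ : F ≃+* F), c ≠ 0 → ∃ φ : MulAut S, ∀ a, (D.transport e).Phi φ a = c * σ a := by
  intro c σ hc
  obtain ⟨φ, hφ⟩ := hl c σ hc
  refine ⟨(e.trans φ).trans e.symm, fun a => ?_⟩
  obtain ⟨x, rfl⟩ := (D.transport e).ca_surj a
  rw [RD.Phi_ca, RD.transport_ca, RD.transport_ca]
  show D.ca (e (e.symm (φ (e x)))) = _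
  rw [e.apply_symm_apply, hφ]

end Cfsg.Agent.Suz2.Rig
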