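import Mathlib
import Cfsg.Agent.Lib.Suz2.RigidGp
import Cfsg.Agent.Lib.PSU2.Syl
import Cfsg.Agent.Lib.KS2.SU3Inv4
import Cfsg.Agent.Lib.ChevAut.FieldCard

/-!
The group `U` of pairs: automorphisms, and the identification with Sylow `2`-subgroups of `SU₃`.
-/

set_option autoImplicit false
set_option linter.unusedSectionVars false
set_option linter.style.haveILetI false

namespace Cfsg.Agent.Suz2.Rig

open Cfsg.Agent.PSU2 Cfsg.Agent.Lib.Classical

variable {F : Type*} [Field F] [Fintype F] {q : ℕ}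

/-- The involutory automorphism of the field. -/
def thetaQ (hF : Fintype.card F = q ^ 2) : F ≃+* F where
  toFun x := x ^ q
  invFun x := x ^ q
  left_inv x := pow_q_pow_q hF x
  right_inv x := pow_q_pow_q hF x
  map_mul' x y := mul_pow x y q
  map_add' x y := pow_q_add hF x y

lemma thetaQ_apply (hF : Fintype.card F = q ^ 2) (x : F) : thetaQ hF x = x ^ q := rfl

variable (hF : Fintype.card F = q ^ 2) (h2 : (2 : F) = 0)

/-- The coordinates on `U`. -/
def rdUU : RD (UU hF) F (thetaQ hF) where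
  ca := ca
  cb := cb
  ca_mul := ca_mul
  ca_surj a := by
    obtain ⟨b, hb⟩ := exists_b hF a
    exact ⟨mkU hF a b hb, rfl⟩
  mem_center_iff := mem_center_iff h2
  cb_mul x y hx hy := by
    rw [cb_mul, hx, zero_mul, add_zero]
  cb_inj x y hx hy h := UU_ext (hx.trans hy.symm) h
  cb_sq x := by
    rw [sq_cb h2, pow_succ, mul_comm, thetaQ_apply]
  sq_surj z hz := by
    by_cases h0 : cb z = 0
    · refine ⟨1, ?_⟩
      rw [mul_one]
      exact UU_ext hz h0
    obtain ⟨a, _, ha⟩ := exists_norm_eq hF h0 (fixed_of_zero h2 hz)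
    obtain ⟨b, hb⟩ := exists_b hF a
    refine ⟨mkU hF a b hb, ?_⟩
    apply UU_ext
    · rw [sq_ca h2, hz]
    · rw [sq_cb h2, ca_mkU, ha]
  θ_comm σ x := by
    simp only [thetaQ_apply, map_pow]
  θ_ne := by
    obtain ⟨t, ht⟩ := exists_trace_one hF
    refine ⟨t, fun h => ?_⟩
    rw [thetaQ_apply] at h
    rw [h] at ht
    have : (1 : F) = 0 := by
      rw [← ht]
      linear_combination t * h2
    exact one_ne_zero this
  θ_cond := Or.inl (pow_q_pow_q hF)

/-- The semilinear automorphism. -/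
def liftFun (c : F) (σ : F ≃+* F) (x : UU hF) : UU hF :=
  mkU hF (c * σ (ca x)) (c ^ (q + 1) * σ (cb x)) (by
    have h := cond x
    have h1 := norm_pow_q hF c
    rw [mul_pow (c ^ (q + 1)) _ q, h1, mul_pow c _ (q + 1), ← map_pow σ (cb x) q, ← map_pow σ (ca x) (q + 1), ← h,
      map_add]
    ring)

lemma liftFun_ca (c : F) (σ : F ≃+* F) (x : UU hF) : ca (liftFun hF c σ x) = c * σ (ca x) := rfl
lemma liftFun_cb (c : F) (σ : F ≃+* F) (x : UU hF) : cb (liftFun hF c σ x) = c ^ (q + 1) * σ (cb x) := rfl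

/-- The lift. -/
theorem exists_lift (c : F) (σ : F ≃+* F) (hc : c ≠ 0) :
    ∃ φ : MulAut (UU hF), ∀ x : UU hF, ca (φ x) = c * σ (ca x) := by
  have hinj : Function.Injective (liftFun hF c σ) := by
    intro x y h
    have h3 := congrArg ca h
    have h4 := congrArg cb h
    rw [liftFun_ca, liftFun_ca] at h3
    rw [liftFun_cb, liftFun_cb] at h4
    apply UU_ext
    · exact σ.injective (mul_left_cancel₀ hc h3)
    · exact σ.injective (mul_left_cancel₀ (pow_ne_zero _ hc) h4)
  have hbij : Function.Bijective (liftFun hF c σ) := Finite.injective_iff_bijective.mp hinj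
  have hmul : ∀ x y : UU hF, liftFun hF c σ (x * y) = liftFun hF c σ x * liftFun hF c σ y := by
    intro x y
    apply UU_ext
    · rw [ca_mul, liftFun_ca, liftFun_ca, liftFun_ca, ca_mul, map_add]
      ring
    · rw [cb_mul, liftFun_cb, liftFun_cb, liftFun_cb, liftFun_ca, liftFun_ca, cb_mul, map_add, map_add]
      simp only [map_mul, map_pow, mul_pow, pow_succ]
      ring
  exact ⟨MulEquiv.ofBijective (MonoidHom.mk' (liftFun hF c σ) hmul) hbij, fun x => rfl⟩

/-- The only involutions among the automorphisms of the field. -/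
lemma invol_eq [CharP F 2] (τ : F ≃+* F) (hτ : ∀ x, τ (τ x) = x) : τ = RingEquiv.refl F ∨ τ = thetaQ hF := by
  classical
  haveI : Finite (F ≃+* F) := Finite.of_injective (fun f : F ≃+* F => (f : F → F)) (fun a b h => by
    ext x
    exact congrFun h x)
  letI : Fintype (F ≃+* F) := Fintype.ofFinite _
  haveI := Cfsg.Agent.Lib.Chev.isCyclic_ringAut (F := F)
  have h2' : (2 : F) = 0 := CharTwo.two_eq_zero
  by_contra hn
  push Not at hn
  obtain ⟨h3, h4⟩ := hn
  have hθ : thetaQ hF ≠ RingEquiv.refl F := by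
    obtain ⟨x, hx⟩ := (rdUU hF h2').θ_ne
    intro he
    apply hx
    rw [he]
    rfl
  have hle := IsCyclic.card_pow_eq_one_le (α := F ≃+* F) (n := 2) (by norm_num)
  have hsub : ({RingEquiv.refl F, thetaQ hF, τ} : Finset (F ≃+* F)) ⊆ Finset.univ.filter (fun a : F ≃+* F => a ^ 2 = 1) := by
    intro a ha
    simp only [Finset.mem_insert, Finset.mem_singleton] at ha
    simp only [Finset.mem_filter, Finset.mem_univ, true_and]
    rcases ha with rfl | rfl | rfl
    · rfl
    · ext x
      show thetaQ hF (thetaQ hF x) = x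
      exact pow_q_pow_q hF x
    · ext x
      exact hτ x
  have hcard := Finset.card_le_card hsub
  rw [Finset.card_insert_of_notMem, Finset.card_insert_of_notMem, Finset.card_singleton] at hcard
  · omega
  · simp only [Finset.mem_singleton]
    exact fun h => h4 h.symm
  · simp only [Finset.mem_insert, Finset.mem_singleton]
    rintro (h | h)
    · exact hθ h.symm
    · exact h3 h.symm

/-- Every Sylow `2`-subgroup of `SU₃(2^n)` is a copy of `U`. -/
theorem sylow_equiv_SU {n : ℕ} (hn : 1 ≤ n) (hF : Fintype.card F = (2 ^ n) ^ 2) (S : Sylow 2 (Cfsg.SU 3 F (2 ^ n))) :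
    Nonempty ((S : Subgroup (Cfsg.SU 3 F (2 ^ n))) ≃* UU hF) := by
  classical
  haveI : Fact (Nat.Prime 2) := ⟨Nat.prime_two⟩
  have h2 := two_eq_zero_of_card hn hF
  let f := toSU hF h2
  have hf : Function.Injective f := toSU_inj h2
  have hfac : (Nat.card (Cfsg.SU 3 F (2 ^ n))).factorization 2 = 3 * n := by
    rw [Cfsg.Agent.Lib.KS2.SU3Inv.card_SU3 hF]
    set q := 2 ^ n with hq
    have hq2 : 2 ≤ q := by
      calc 2 = 2 ^ 1 := by norm_num
        _ ≤ 2 ^ n := Nat.pow_le_pow_right (by norm_num) hn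
    have hev : Even q := by
      rw [hq]
      exact (Nat.even_pow' (by omega)).mpr even_two
    have hoddq2 : ¬ 2 ∣ (q ^ 2 - 1) := by
      have h1 : 4 ≤ q ^ 2 := by nlinarith
      obtain ⟨k, hk⟩ := hev
      have h3 : q ^ 2 = 2 * (2 * k * k) := by
        rw [hk]
        ring
      omega
    have hoddq3 : ¬ 2 ∣ (q ^ 3 + 1) := by
      obtain ⟨k, hk⟩ := hev
      have h3 : q ^ 3 = 2 * (k * (q ^ 2)) := by
        rw [pow_succ, pow_two]
        rw [hk]
        ring
      omega
    have h5 : q ^ 2 - 1 ≠ 0 := fun h0 => hoddq2 (h0 ▸ dvd_zero _)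
    have h6 : q ^ 3 + 1 ≠ 0 := by positivity
    have hq0 : q ^ 3 ≠ 0 := by positivity
    rw [Nat.factorization_mul hq0 (mul_ne_zero h5 h6), Nat.factorization_mul h5 h6]
    simp only [Finsupp.add_apply]
    rw [Nat.factorization_eq_zero_of_not_dvd hoddq2, Nat.factorization_eq_zero_of_not_dvd hoddq3, add_zero, add_zero]
    rw [hq, ← pow_mul, Nat.Prime.factorization_pow Nat.prime_two]
    simp [mul_comm]
  have hcard : Nat.card f.range = 2 ^ (Nat.card (Cfsg.SU 3 F (2 ^ n))).factorization 2 := by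
    rw [hfac, Nat.card_congr (MonoidHom.ofInjective hf).symm.toEquiv, card_UU h2, ← pow_mul, mul_comm]
  let P : Sylow 2 (Cfsg.SU 3 F (2 ^ n)) := Sylow.ofCard f.range hcard
  have hP : (P : Subgroup (Cfsg.SU 3 F (2 ^ n))) = f.range := Sylow.coe_ofCard _ _
  exact ⟨(Sylow.equiv S P).trans ((MulEquiv.subgroupCongr hP).trans (MonoidHom.ofInjective hf).symm)⟩

end Cfsg.Agent.Suz2.Rig
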